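import Cfsg.Agent.H51.Disc.Shift
import Cfsg.Agent.H88.Disc.Defs
import Cfsg.Agent.H34.FiM4.OrthModels
import Cfsg.Agent.H92.OrthThreeTransp
import Cfsg.Agent.H43.AutPO.Gamma
import Cfsg.Agent.S0287

/-!
The orthogonal cases over the field with two elements of a disconnected class of 3-transpositions.
-/

set_option autoImplicit false
set_option linter.unusedSectionVars false

universe u

namespace H51.Disc

open H43 Cfsg
open scoped MatrixGroups

section transfer

variable {ι : Type} [Fintype ι] [DecidableEq ι] {X : Type u} [Group X] {E : Set X}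

/-- The model in the language of linear isometries. -/
theorem exists_orth_model (Q : QuadraticForm (ZMod 2) (ι → ZMod 2)) (hQ : (polB Q).Nondegenerate)
    {f : (ι → ZMod 2) → ZMod 2} (hf : ⇑Q = f) (e : X ≃* ↥(Cfsg.isometryGroup (ZMod 2) f))
    (he : e '' E = {g : ↥(Cfsg.isometryGroup (ZMod 2) f) |
      (((g : GL ι (ZMod 2)) : Matrix ι ι (ZMod 2)) - 1).rank = 1}) :
    ∃ ψ : X ≃* orthGroup Q, ψ '' E = reflSet Q := by
  subst hf
  refine ⟨e.trans (toOrth Q), ?_⟩
  rw [MulEquiv.coe_trans, Set.image_comp, he]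
  ext y
  obtain ⟨g, rfl⟩ := (toOrth Q).surjective y
  rw [(toOrth Q).injective.mem_set_image, Set.mem_ofPred_eq, H92.mem_reflSet_iff hQ, Matrix.rank]
  have hr : resid (toOrth Q g) =
      LinearMap.range (((g : GL ι (ZMod 2)) : Matrix ι ι (ZMod 2)) - 1).mulVecLin := by
    apply le_antisymm <;> rintro _ ⟨x, rfl⟩
    · exact ⟨-x, by rw [Matrix.mulVecLin_apply, Matrix.sub_mulVec, Matrix.one_mulVec,
        Matrix.mulVec_neg, resMap_apply, toOrth_apply]; abel⟩
    · exact ⟨-x, by rw [Matrix.mulVecLin_apply, Matrix.sub_mulVec, Matrix.one_mulVec,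
        resMap_apply, toOrth_apply, Matrix.mulVec_neg]; abel⟩
  rw [hr]

end transfer

variable {V : Type} [AddCommGroup V] [Module (ZMod 2) V] [Fintype V]
  {Q : QuadraticForm (ZMod 2) V} {X : Type u} [Group X] {E : Set X}
  (hQ : (polB Q).Nondegenerate) {ψ : X ≃* orthGroup Q} (hψ : ψ '' E = reflSet Q)
include hQ hψ

/-- A shift of the class gives a shift of the space. -/
theorem sh_of_isShift {g : X} (hg : H88.Disc.IsShift E g) : Sh (ψ g) := by
  have hE : ∀ v, Q v = 1 → ∃ a ∈ E, ψ a = refl Q v := by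
    intro v hv
    have : refl Q v ∈ ψ '' E := by
      rw [hψ, H34.FiM4.reflSet_eq hQ]; exact ⟨v, hv, rfl⟩
    exact this
  have hc : ∀ v a, ψ a = refl Q v → ψ (g * a * g⁻¹) = refl Q ((ψ g).1 v) := by
    intro v a ha
    rw [map_mul, map_mul, map_inv, ha, refl_conj]
  refine ⟨fun x => ?_, fun v hv heq => ?_, fun v hv => ?_⟩
  · rw [← orth_mul_apply, ← map_mul, hg.1, map_one, orth_one_apply]
  · obtain ⟨a, ha, he⟩ := hE v hv
    refine (hg.2 a ha).1 (ψ.injective ?_)
    rw [hc v a he, heq, he]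
  · obtain ⟨a, ha, he⟩ := hE v hv
    have := (hg.2 a ha).2.map ψ
    rw [hc v a he, he] at this
    exact (H34.FiM4.refl_commute_iff hQ hv (by rw [orth_qmap, hv])).1 this

/-- The products of commuting pairs, from above and below. -/
theorem pairProd_bounds {n k l e : ℕ} (hs : H65.Fischer.IsSRG E n k l e) :
    (H88.Disc.pairProd E).ncard ≤ n * k ∧ n * k ≤ (H88.Disc.pairProd E).ncard * 2 := by
  classical
  haveI : Finite (orthGroup Q) := Finite.of_injective (fun h : orthGroup Q => (h.1 : V → V))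
    fun a b h => orth_ext fun x => congrFun h x
  haveI : Finite X := Finite.of_equiv _ ψ.symm.toEquiv
  haveI := Fintype.ofFinite X
  let P : Set (X × X) := {p | p.1 ∈ E ∧ p.2 ∈ H99.perp E p.1}
  have hP : P.ncard = n * k := by
    let e' : ↥P ≃ (Σ a : ↥E, ↥(H99.perp E a.1)) :=
      ⟨fun p => ⟨⟨p.1.1, p.2.1⟩, ⟨p.1.2, p.2.2⟩⟩, fun q => ⟨(q.1.1, q.2.1), q.1.2, q.2.2⟩,
        fun p => rfl, fun q => rfl⟩
    rw [← Nat.card_coe_set_eq, Nat.card_congr e', Nat.card_sigma]
    simp only [Nat.card_coe_set_eq]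
    rw [Finset.sum_congr rfl (fun a _ => hs.deg a.1 a.2), Finset.sum_const, Finset.card_univ,
      ← Nat.card_eq_fintype_card, Nat.card_coe_set_eq, hs.card, smul_eq_mul]
  have himg : H88.Disc.pairProd E = (fun p : X × X => p.1 * p.2) '' P := by
    ext z
    constructor
    · rintro ⟨a, ha, b, hb, hne, hc, rfl⟩
      exact ⟨(a, b), ⟨ha, hb, hne.symm, hc⟩, rfl⟩
    · rintro ⟨⟨a, b⟩, ⟨ha, hb, hne, hc⟩, rfl⟩
      exact ⟨a, ha, b, hb, Ne.symm hne, hc, rfl⟩
  refine ⟨?_, ?_⟩
  · rw [himg, ← hP]; exact Set.ncard_image_le (Set.toFinite _)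
  · rw [← hP]
    refine natCard_le_mul_of_fibres P (fun p : X × X => p.1 * p.2) _
      (fun p hp => by rw [himg]; exact ⟨p, hp, rfl⟩) (n := 2) fun z _ => ?_
    by_cases hne : {p ∈ P | p.1 * p.2 = z}.Nonempty
    swap
    · rw [Set.not_nonempty_iff_eq_empty] at hne; rw [hne]; simp
    obtain ⟨⟨a, b⟩, ⟨ha, hb⟩, hz⟩ := hne
    refine le_trans (Set.ncard_le_ncard (t := {(a, b), (b, a)}) ?_ (Set.toFinite _))
      ((Set.ncard_insert_le _ _).trans (by simp))
    rintro ⟨a', b'⟩ ⟨⟨ha', hb'⟩, hz'⟩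
    have hv : ∀ x ∈ E, ∃ v, Q v = 1 ∧ ψ x = refl Q v := by
      intro x hx
      have : ψ x ∈ reflSet Q := hψ ▸ ⟨x, hx, rfl⟩
      rw [H34.FiM4.reflSet_eq hQ] at this
      obtain ⟨v, hv, he⟩ := this
      exact ⟨v, hv, he.symm⟩
    obtain ⟨u, hu, hau⟩ := hv a ha
    obtain ⟨v, hv1, hbv⟩ := hv b hb.1
    obtain ⟨u', hu', hau'⟩ := hv a' ha'
    obtain ⟨v', hv1', hbv'⟩ := hv b' hb'.1
    have hp : refl Q u * refl Q v = refl Q u' * refl Q v' := by
      rw [← hau, ← hbv, ← hau', ← hbv', ← map_mul, ← map_mul]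
      exact congrArg ψ (hz.trans hz'.symm)
    have hB : polB Q u v = 0 := (H34.FiM4.refl_commute_iff hQ hu hv1).1
      (by rw [← hau, ← hbv]; exact hb.2.2.map ψ)
    have hB' : polB Q u' v' = 0 := (H34.FiM4.refl_commute_iff hQ hu' hv1').1
      (by rw [← hau', ← hbv']; exact hb'.2.2.map ψ)
    have hne1 : u ≠ v := fun h => hb.2.1 (ψ.injective (by rw [hau, hbv, h]))
    have huv : u + v ≠ 0 := fun h => hne1 (eq_of_add_eq_zero' h)
    obtain ⟨y, hy⟩ := exists_polB_eq hQ huv 1
    have hy' : polB Q y u + polB Q y v = 1 := by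
      rw [← map_add, polB_comm]
      first | exact hy | (rw [polB_comm]; exact hy)
    have h2 : polB Q y u • u + polB Q y v • v = polB Q y u' • u' + polB Q y v' • v' := by
      have h := congrArg (fun t : orthGroup Q => t.1 y) hp
      simp only [orth_mul_apply, H92.refl_two_apply hu, H92.refl_two_apply hv1,
        H92.refl_two_apply hu', H92.refl_two_apply hv1', map_add, map_smul, LinearMap.add_apply,
        LinearMap.smul_apply, smul_eq_mul, polB_comm v u, polB_comm v' u', hB, hB', mul_zero,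
        add_zero, add_assoc, add_right_inj] at h
      rw [add_comm (polB Q y u • u), add_comm (polB Q y u' • u')]
      exact h
    have hin : ∀ w, Q w = 1 → w = polB Q y u' • u' + polB Q y v' • v' → w = u' ∨ w = v' := by
      intro w hw he
      have e2 : ∀ t : ZMod 2, t = 0 ∨ t = 1 := by decide
      rcases e2 (polB Q y u') with h | h <;> rcases e2 (polB Q y v') with h' | h' <;>
        rw [h, h'] at he <;> simp only [zero_smul, one_smul, zero_add, add_zero] at he
      · subst he; rw [map_zero] at hw; exact absurd hw zero_ne_one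
      · exact Or.inr he
      · exact Or.inl he
      · subst he
        rw [qmap_add, hu', hv1', hB', add_zero, zmod_two_add] at hw
        exact absurd hw zero_ne_one
    have hcomm' : refl Q u' * refl Q v' = refl Q v' * refl Q u' :=
      ((H34.FiM4.refl_commute_iff hQ hu' hv1').2 hB').eq
    have hcomm : refl Q u * refl Q v = refl Q v * refl Q u :=
      ((H34.FiM4.refl_commute_iff hQ hu hv1).2 hB).eq
    have e2 : ∀ t s : ZMod 2, t + s = 1 → (t = 1 ∧ s = 0) ∨ (t = 0 ∧ s = 1) := by decide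
    have key : (refl Q u = refl Q u' ∧ refl Q v = refl Q v') ∨
        (refl Q u = refl Q v' ∧ refl Q v = refl Q u') := by
      rcases e2 _ _ hy' with ⟨h, h'⟩ | ⟨h, h'⟩ <;>
        rw [h, h', one_smul, zero_smul] at h2
      · rw [add_zero] at h2
        rcases hin u hu h2 with rfl | rfl
        · exact Or.inl ⟨rfl, mul_left_cancel hp⟩
        · exact Or.inr ⟨rfl, mul_left_cancel (hp.trans hcomm')⟩
      · rw [zero_add] at h2
        rcases hin v hv1 h2 with rfl | rfl
        · exact Or.inr ⟨mul_right_cancel (hp.trans hcomm'), rfl⟩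
        · exact Or.inl ⟨mul_right_cancel hp, rfl⟩
    rcases key with ⟨h, h'⟩ | ⟨h, h'⟩
    · left
      rw [Prod.mk.injEq]
      exact ⟨ψ.injective (by rw [hau', hau, h]), ψ.injective (by rw [hbv', hbv, h'])⟩
    · right
      rw [Set.mem_singleton_iff, Prod.mk.injEq]
      exact ⟨ψ.injective (by rw [hau', hbv, h']), ψ.injective (by rw [hbv', hau, h])⟩

/-- A union of classes of the derived subgroup containing a shift is large. -/
theorem card_le_of_twist (hd : 3 ≤ Module.finrank (ZMod 2) V) (h4 : Module.finrank (ZMod 2) V ≠ 4)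
    {j : ℕ} (hj : Module.finrank (ZMod 2) V = 2 * j) {T : Set X} (hT : H88.Disc.Twist E T) :
    Nat.card X ≤ 2 * T.ncard * 2 ^ (j * (j + 1)) := by
  haveI : Finite (orthGroup Q) := Finite.of_injective (fun h : orthGroup Q => (h.1 : V → V))
    fun a b h => orth_ext fun x => congrFun h x
  haveI : Finite X := Finite.of_equiv _ ψ.symm.toEquiv
  obtain ⟨g, hg⟩ := hT.nonempty
  have hsh := sh_of_isShift hQ hψ (hT.shift g hg)
  obtain ⟨v₀, hv₀, -⟩ := exists_one_perp hQ hd 0
  have hcl := H92.three_transp_comap ψ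
    (H92.reflSet_three_transp hQ h4 ⟨v₀, by rw [hv₀]; exact one_ne_zero⟩)
  rw [← hψ, Set.preimage_image_eq _ ψ.injective] at hcl
  obtain ⟨⟨hinv, -⟩, ⟨a₀, ha₀, hconj⟩, hgen⟩ := hcl
  have ha2 : a₀ * a₀ = 1 := by
    rw [← pow_two, ← hinv a₀ ha₀]; exact pow_orderOf_eq_one a₀
  have hcos : ∀ x : X, x ∈ commutator X ∨ x * a₀ ∈ commutator X := by
    intro x
    have hx : x ∈ Subgroup.closure E := hgen ▸ Subgroup.mem_top x
    induction hx using Subgroup.closure_induction with
    | mem y hy =>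
      right
      rw [hconj] at hy
      obtain ⟨c, rfl⟩ := isConj_iff.mp hy
      have := Subgroup.commutator_mem_commutator (Subgroup.mem_top c) (Subgroup.mem_top a₀)
        (H₁ := (⊤ : Subgroup X)) (H₂ := ⊤)
      rw [commutatorElement_def, inv_eq_of_mul_eq_one_right ha2] at this
      exact this
    | one => exact Or.inl (Subgroup.one_mem _)
    | mul y z _ _ hy hz =>
      have hn : ∀ w ∈ commutator X, a₀ * w * a₀ ∈ commutator X := fun w hw => by
        have := (inferInstance : (commutator X).Normal).conj_mem w hw a₀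
        rwa [inv_eq_of_mul_eq_one_right ha2] at this
      rcases hy with hy | hy <;> rcases hz with hz | hz
      · exact Or.inl (mul_mem hy hz)
      · exact Or.inr (by rw [mul_assoc]; exact mul_mem hy hz)
      · refine Or.inr ?_
        have := mul_mem hy (hn z hz)
        rwa [show y * a₀ * (a₀ * z * a₀) = y * z * a₀ by
          simp only [mul_assoc]; rw [← mul_assoc a₀ a₀, ha2, one_mul]] at this
      · refine Or.inl ?_
        have := mul_mem hy (hn _ hz)
        rwa [show y * a₀ * (a₀ * (z * a₀) * a₀) = y * z by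
          simp only [mul_assoc]; rw [← mul_assoc a₀ a₀, ha2, one_mul, mul_one]] at this
    | inv y _ hy =>
      rcases hy with hy | hy
      · exact Or.inl (inv_mem hy)
      · refine Or.inr ?_
        have := (inferInstance : (commutator X).Normal).conj_mem _ (inv_mem hy) a₀
        rwa [show a₀ * (y * a₀)⁻¹ * a₀⁻¹ = y⁻¹ * a₀ by
          rw [mul_inv_rev, inv_eq_of_mul_eq_one_right ha2]
          simp only [← mul_assoc]
          rw [ha2, one_mul]] at this
  have hfib : ∀ b : X, {x ∈ (Set.univ : Set X) | x * g * x⁻¹ = b}.ncard ≤ 2 ^ (j * (j + 1)) := by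
    intro b
    by_cases hne : {x ∈ (Set.univ : Set X) | x * g * x⁻¹ = b}.Nonempty
    swap
    · rw [Set.not_nonempty_iff_eq_empty] at hne; rw [hne]; simp
    obtain ⟨x₀, -, hx₀⟩ := hne
    refine le_trans (Set.ncard_le_ncard_of_injOn (fun x => ψ (x₀⁻¹ * x)) ?_
      (fun a _ c _ e => mul_left_cancel (ψ.injective e)) (Set.toFinite _))
      (hsh.centralizer_bound hQ hd j ⊥ (by rw [finrank_bot, zero_add, hj])
        (fun x hx => by rw [Submodule.mem_bot] at hx; rw [hx, map_zero]; exact zero_mem _)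
        (fun x hx _ => ⟨0, zero_mem _, by rw [Submodule.mem_bot] at hx; rw [hx, map_zero]⟩))
    rintro x ⟨-, hx⟩
    refine ⟨?_, fun y hy => by rw [Submodule.mem_bot] at hy; rw [hy, map_zero]⟩
    refine Commute.map ?_ ψ
    have h := hx₀.trans hx.symm
    show x₀⁻¹ * x * g = g * (x₀⁻¹ * x)
    calc x₀⁻¹ * x * g = x₀⁻¹ * (x * g * x⁻¹) * x := by group
      _ = x₀⁻¹ * (x₀ * g * x₀⁻¹) * x := by rw [h]
      _ = g * (x₀⁻¹ * x) := by group
  have h := natCard_le_mul_of_fibres (Set.univ : Set X) (fun x => x * g * x⁻¹)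
    (T ∪ (fun t => a₀ * t * a₀⁻¹) '' T) (fun x _ => ?_) (fun b _ => hfib b)
  · rw [Set.ncard_univ] at h
    refine h.trans (Nat.mul_le_mul_right _ ((Set.ncard_union_le _ _).trans ?_))
    have := Set.ncard_image_le (f := fun t => a₀ * t * a₀⁻¹) (Set.toFinite T)
    omega
  · rcases hcos x with hx | hx
    · exact Or.inl (hT.inv x hx g hg)
    · refine Or.inr ⟨_, hT.inv (a₀⁻¹ * (x * a₀) * a₀) ?_ g hg, ?_⟩
      · simpa using (inferInstance : (commutator X).Normal).conj_mem _ hx a₀⁻¹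
      · show a₀ * _ * a₀⁻¹ = x * g * x⁻¹
        rw [inv_eq_of_mul_eq_one_right ha2]
        simp only [mul_inv_rev, mul_assoc, inv_eq_of_mul_eq_one_right ha2]
        simp only [← mul_assoc, ha2, one_mul]
        simp only [mul_assoc, ha2, mul_one]

omit hQ hψ [Fintype V]

/-- The numerical bound on the order formula. -/
theorem prod_bound (n : ℕ) : 2 ^ (n * (n + 1)) * (4 ^ n + 2) ≤
    2 * 4 ^ n * (∏ i ∈ Finset.range n, (2 ^ (2 * (i + 1)) - 1)) ∨ n = 0 := by
  induction n with
  | zero => exact Or.inr rfl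
  | succ n ih =>
    left
    rw [Finset.prod_range_succ]
    rcases Nat.eq_zero_or_pos n with rfl | hn
    · norm_num
    obtain ih | ih := ih
    swap
    · omega
    have hA : (2 : ℕ) ^ (2 * (n + 1)) = 4 * 4 ^ n := by
      rw [pow_mul, pow_succ']; norm_num
    have hB : (2 : ℕ) ^ ((n + 1) * (n + 1 + 1)) = 2 ^ (n * (n + 1)) * (4 * 4 ^ n) := by
      rw [← hA, ← pow_add]; congr 1; ring
    rw [hA, hB, pow_succ' 4 n]
    have h1 : 1 ≤ 4 ^ n := Nat.one_le_pow _ _ (by norm_num)
    generalize hP : ∏ i ∈ Finset.range n, (2 ^ (2 * (i + 1)) - 1) = P at ih ⊢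
    generalize 4 ^ n = A at ih h1 ⊢
    generalize 2 ^ (n * (n + 1)) = B at ih ⊢
    obtain ⟨C, hC⟩ : ∃ C, 4 * A = C + 1 := ⟨4 * A - 1, by omega⟩
    rw [show 4 * A - 1 = C by omega]
    nlinarith [Nat.mul_le_mul_right (4 * C) ih, Nat.mul_le_mul_left B h1]

theorem order_bound {m : ℕ} (hm : 6 ≤ m) :
    2 ^ (2 * m * m - m - 1) ≤
      2 * 2 ^ (m * (m - 1)) * (2 ^ m - 1) *
        ∏ i ∈ Finset.range (m - 1), (2 ^ (2 * (i + 1)) - 1) := by
  obtain ⟨n, rfl⟩ : ∃ n, m = n + 1 := ⟨m - 1, by omega⟩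
  rw [Nat.add_sub_cancel]
  have h := (prod_bound n).resolve_right (by omega)
  generalize hP : ∏ i ∈ Finset.range n, (2 ^ (2 * (i + 1)) - 1) = P at h ⊢
  have h2 : 2 ^ (n * (n + 1)) ≤ 2 * P := by
    have h1 : 0 < 4 ^ n := Nat.pow_pos (by norm_num)
    refine Nat.le_of_mul_le_mul_right ?_ h1
    calc 2 ^ (n * (n + 1)) * 4 ^ n ≤ 2 ^ (n * (n + 1)) * (4 ^ n + 2) :=
          Nat.mul_le_mul_left _ (by omega)
      _ ≤ 2 * P * 4 ^ n := by rw [mul_right_comm]; exact h
  have h3 : 2 ^ n ≤ 2 ^ (n + 1) - 1 := by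
    rw [pow_succ]; have : 0 < 2 ^ n := Nat.two_pow_pos n; omega
  calc 2 ^ (2 * (n + 1) * (n + 1) - (n + 1) - 1)
      = 2 ^ ((n + 1) * n) * 2 ^ n * 2 ^ (n * (n + 1)) := by
        rw [← pow_add, ← pow_add]; congr 1
        have e : 2 * (n + 1) * (n + 1) = (n + 1) * n + n + n * (n + 1) + (n + 1) + 1 := by ring
        omega
    _ ≤ 2 ^ ((n + 1) * n) * (2 ^ (n + 1) - 1) * (2 * P) :=
        Nat.mul_le_mul (Nat.mul_le_mul_left _ h3) h2
    _ = 2 * 2 ^ ((n + 1) * n) * (2 ^ (n + 1) - 1) * P := by ring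

/-- No shifts in the elliptic case. -/
theorem oMinus_shift_stmt : H88.Disc.OMinusShiftStmt.{u} := by
  intro X _ _ E m hm hX g hg
  obtain ⟨e, he⟩ := hX
  have hQ := qMinus_nondeg (F := ZMod 2) (a := 1) (b := 1) m (by decide)
  obtain ⟨ψ, hψ⟩ := exists_orth_model (qMinus m (ZMod 2) 1 1) hQ (coe_qMinus _ _ _ _) e he
  have hsh := sh_of_isShift hQ hψ hg
  have h1 := H43.AutPO.finrank_le_qMinus (F := ZMod 2) (a := 1) (b := 1) (by decide)
    (LinearMap.ker (nmap (ψ g))) fun x hx => hsh.ker_singular (LinearMap.mem_ker.mp hx)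
  have h2 := hsh.finrank_le_ker
  rw [finrank_qMinus] at h2
  omega

/-- Only dimension eight is left in the hyperbolic case. -/
theorem oPlus_twist_stmt : H88.Disc.OPlusTwistStmt.{u} := by
  intro X _ _ E m hm hX T hT
  obtain ⟨e, he⟩ := hX
  have hQ := qPlus_nondeg (F := ZMod 2) m
  obtain ⟨ψ, hψ⟩ := exists_orth_model (qPlus m (ZMod 2)) hQ (coe_qPlus _ _) e he
  have hfr := finrank_qPlus (F := ZMod 2) m
  obtain ⟨g, hg⟩ := hT.nonempty
  have h4 := (sh_of_isShift hQ hψ (hT.shift g hg)).four_dvd_finrank hQ (by omega)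
  obtain ⟨n, k, c, e', hs, hn, hk, -, -⟩ :=
    H34.FiM4.oPlus_srg (by omega : 4 ≤ m) ⟨e, he⟩
  have hb := pairProd_bounds hQ hψ hs
  have hm4 : m = 4 := by
    by_contra hne
    have h6 : 6 ≤ m := by omega
    have hle := card_le_of_twist hQ hψ (by omega) (by omega) hfr hT
    rw [Nat.card_congr e.toEquiv, Cfsg.Agent.S0287.result (ZMod.card 2) m (by omega), hT.card] at hle
    obtain ⟨j, rfl⟩ : ∃ j, m = j + 2 := ⟨m - 2, by omega⟩
    rw [Nat.add_sub_cancel] at hn hk
    have hA : ∀ A : ℕ, A = 2 ^ j → n * k ≤ 32 * (A * A * A * A) := by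
      intro A hA'
      have e1 : ((2 : ℤ) ^ j) = (A : ℤ) := by rw [hA']; push_cast; rfl
      rw [e1] at hn hk
      have : (n : ℤ) * k ≤ 32 * ((A : ℤ) * A * A * A) := by
        rw [hn, hk]; nlinarith [Int.natCast_nonneg A]
      exact_mod_cast this
    have h32 := hA _ rfl
    have h5 : n * k ≤ 2 ^ (4 * (j + 2) - 3) := by
      refine h32.trans (le_of_eq ?_)
      rw [show (32 : ℕ) = 2 ^ 5 from rfl, ← pow_add, ← pow_add, ← pow_add, ← pow_add]
      congr 1; omega
    have h7 := order_bound h6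
    have h8 := (h7.trans hle).trans (Nat.mul_le_mul_right _ (Nat.mul_le_mul_left 2 (hb.1.trans h5)))
    rw [show (2 : ℕ) * 2 ^ (4 * (j + 2) - 3) = 2 ^ (4 * (j + 2) - 3 + 1) by rw [pow_succ']] at h8
    rw [← pow_add] at h8
    have h9 := (Nat.pow_le_pow_iff_right (by norm_num : 1 < 2)).mp h8
    have h10 : (j + 2) * (j + 2 + 1) + (4 * (j + 2) - 2) + (j + 2) + 1 <
        2 * (j + 2) * (j + 2) := by
      obtain ⟨i, rfl⟩ : ∃ i, j = i + 4 := ⟨j - 4, by omega⟩
      rw [show 4 * (i + 4 + 2) - 2 = 4 * i + 22 by omega]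
      nlinarith
    omega
  subst hm4
  refine ⟨rfl, ?_, ⟨?_⟩⟩
  · haveI : Finite (orthGroup (qPlus 4 (ZMod 2))) := Finite.of_equiv _ ψ.toEquiv
    have hcount := shift_count hQ (by omega) 2 ⊤
      {g : orthGroup (qPlus 4 (ZMod 2)) | Sh g} (by rw [finrank_top, hfr])
      (fun x _ hx => by
        obtain ⟨y, hy⟩ := exists_polB_eq hQ hx 1
        exact ⟨y, trivial, hy⟩)
      (fun g hg => hg) (fun _ _ _ _ => trivial)
      (fun g _ g' _ x hx => by
        rw [show x = 0 from eq_zero_of_polB_eq_zero hQ fun y => hx y trivial, map_zero, map_zero])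
    have h1 : {g : X | g ∈ commutator X ∧ H88.Disc.IsShift E g}.ncard ≤
        {g : orthGroup (qPlus 4 (ZMod 2)) | Sh g}.ncard :=
      Set.ncard_le_ncard_of_injOn ψ (fun g hg => sh_of_isShift hQ hψ hg.2)
        (ψ.injective.injOn) (Set.toFinite _)
    have hnk : n * k = 120 * 63 := by
      norm_num at hn hk
      have : (n : ℤ) * k = 120 * 63 := by rw [hn, hk]
      exact_mod_cast this
    unfold H88.Disc.FewShifts
    have : cnt 2 = 16384 := rfl
    omega
  · exact (e.subgroupMap (commutator X)).trans (MulEquiv.subgroupCongr (by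
      rw [Cfsg.Omega, commutator_def, Subgroup.map_commutator,
        Subgroup.map_top_of_surjective _ e.surjective, commutator_def]))

end H51.Disc
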