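import Cfsg.Agent.H43.Witt
import Cfsg.Agent.H43.Basic

/-!
Involutory isometries moving every non-singular vector to an orthogonal one, over the field with
two elements: structure, centraliser bound, and a bound on their number.
-/

set_option autoImplicit false
set_option linter.unusedSectionVars false

namespace H51.Disc

open H43

variable {V : Type*} [AddCommGroup V] [Module (ZMod 2) V] [Fintype V]
  {Q : QuadraticForm (ZMod 2) V}

/-- An involution of the quadratic space moving each non-singular vector to an orthogonal one. -/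
structure Sh (g : orthGroup Q) : Prop where
  invol : ∀ x, g.1 (g.1 x) = x
  moves : ∀ v, Q v = 1 → g.1 v ≠ v
  adj : ∀ v, Q v = 1 → polB Q v (g.1 v) = 0

/-- `g + 1`. -/
def nmap (g : orthGroup Q) : V →ₗ[ZMod 2] V := (g.1 : V →ₗ[ZMod 2] V) + LinearMap.id

omit [Fintype V] in
theorem nmap_apply (g : orthGroup Q) (x : V) : nmap g x = g.1 x + x := rfl

omit [Fintype V] in
theorem add_self' (x : V) : x + x = 0 := by
  rw [← two_smul (ZMod 2) x, show (2 : ZMod 2) = 0 from rfl, zero_smul]

omit [Fintype V] in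
theorem eq_of_add_eq_zero' {x y : V} (h : x + y = 0) : x = y := by
  calc x = x + (y + y) := by rw [add_self', add_zero]
    _ = y := by rw [← add_assoc, h, zero_add]

omit [Fintype V] in
theorem apply_eq (g : orthGroup Q) (x : V) : g.1 x = nmap g x + x := by
  rw [nmap_apply, add_assoc, add_self', add_zero]

theorem zmod_two_eq_one {a : ZMod 2} (h : a ≠ 0) : a = 1 :=
  (show ∀ a : ZMod 2, a ≠ 0 → a = 1 by decide) a h

theorem zmod_two_add (a : ZMod 2) : a + a = 0 := (show ∀ a : ZMod 2, a + a = 0 by decide) a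

omit [Fintype V] in
theorem polB_self' (x : V) : polB Q x x = 0 := by
  rw [polB_self, show (2 : ZMod 2) = 0 from rfl, zero_mul]

variable (hQ : (polB Q).Nondegenerate) {g : orthGroup Q}

omit [Fintype V] in
theorem Sh.sym_apply (hg : Sh g) (x y : V) : polB Q x (g.1 y) = polB Q (g.1 x) y := by
  rw [← orth_polB_map g x (g.1 y), hg.invol]

omit [Fintype V] in
theorem Sh.sym (hg : Sh g) (x y : V) : polB Q x (nmap g y) = polB Q (nmap g x) y := by
  rw [nmap_apply, nmap_apply, map_add, map_add, LinearMap.add_apply, hg.sym_apply]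

include hQ

theorem exists_one_perp (hd : 3 ≤ Module.finrank (ZMod 2) V) (x : V) :
    ∃ v, Q v = 1 ∧ polB Q x v = 0 := by
  by_contra h
  push Not at h
  have hs : ∀ w ∈ (polB Q).orthogonal (Submodule.span (ZMod 2) {x}), Q w = 0 := by
    intro w hw
    by_contra h0
    exact h w (zmod_two_eq_one h0) (hw x (Submodule.mem_span_singleton_self x))
  have h1 := two_mul_finrank_singular_le hQ _ hs
  have h2 := finrank_orth_add hQ (Submodule.span (ZMod 2) {x})
  have h3 : Module.finrank (ZMod 2) (Submodule.span (ZMod 2) {x}) ≤ 1 := by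
    by_cases hx : x = 0
    · subst hx; rw [Submodule.span_zero_singleton, finrank_bot]; exact Nat.zero_le _
    · rw [finrank_span_singleton hx]
  omega

variable (hd : 3 ≤ Module.finrank (ZMod 2) V) (hg : Sh g)
include hd hg

theorem Sh.adj_all (x : V) : polB Q x (g.1 x) = 0 := by
  have hadd : ∀ a b, polB Q (a + b) (g.1 (a + b)) = polB Q a (g.1 a) + polB Q b (g.1 b) := by
    intro a b
    simp only [map_add, LinearMap.add_apply]
    rw [hg.sym_apply b a, polB_comm (g.1 b) a]
    linear_combination zmod_two_add (polB Q a (g.1 b))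
  by_cases hx : Q x = 1
  · exact hg.adj x hx
  have hx0 : Q x = 0 := (show ∀ a : ZMod 2, a ≠ 1 → a = 0 by decide) _ hx
  obtain ⟨v, hv, hxv⟩ := exists_one_perp hQ hd x
  have hs : Q (x + v) = 1 := by rw [qmap_add, hx0, hv, hxv, zero_add, add_zero]
  have := hadd x v
  rwa [hg.adj _ hs, hg.adj _ hv, add_zero, eq_comm] at this

theorem Sh.perp_self (x : V) : polB Q x (nmap g x) = 0 := by
  rw [nmap_apply, map_add, hg.adj_all hQ hd, polB_self', add_zero]

theorem Sh.singular (x : V) : Q (nmap g x) = 0 := by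
  rw [nmap_apply, qmap_add, orth_qmap, polB_comm, hg.adj_all hQ hd, add_zero, zmod_two_add]

omit hd hQ in
theorem Sh.nmap_nmap (x : V) : nmap g (nmap g x) = 0 := by
  rw [nmap_apply, nmap_apply, map_add, hg.invol, add_comm x, add_self']

omit hd hQ in
theorem Sh.ker_singular {x : V} (hx : nmap g x = 0) : Q x = 0 := by
  by_contra h
  exact hg.moves x (zmod_two_eq_one h) (eq_of_add_eq_zero' hx)

theorem Sh.nmap_perp (x y : V) : polB Q (nmap g x) (nmap g y) = 0 := by
  rw [← hg.sym, hg.nmap_nmap, map_zero]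

omit hd in
/-- The fixed space of a shift is totally singular of half the dimension. -/
theorem Sh.ker_le : 2 * Module.finrank (ZMod 2) (LinearMap.ker (nmap g)) ≤
    Module.finrank (ZMod 2) V :=
  two_mul_finrank_singular_le hQ _ fun _ hx => hg.ker_singular (LinearMap.mem_ker.mp hx)

omit hd hQ in
theorem Sh.range_le : LinearMap.range (nmap g) ≤ LinearMap.ker (nmap g) := by
  rintro _ ⟨x, rfl⟩; exact hg.nmap_nmap x

omit hd hQ in
theorem Sh.finrank_le_ker : Module.finrank (ZMod 2) V ≤
    2 * Module.finrank (ZMod 2) (LinearMap.ker (nmap g)) := by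
  have h1 := LinearMap.finrank_range_add_finrank_ker (nmap g)
  have h2 := Submodule.finrank_mono hg.range_le
  omega

omit hd in
theorem Sh.range_eq : LinearMap.range (nmap g) = LinearMap.ker (nmap g) := by
  refine Submodule.eq_of_le_of_finrank_le hg.range_le ?_
  have h1 := LinearMap.finrank_range_add_finrank_ker (nmap g)
  have h2 := hg.ker_le hQ
  omega

omit hd hQ hg in
theorem natCard_le_mul_of_fibres {α β : Type*} [Finite α] (S : Set α) (f : α → β) (T : Set β)
    [Finite β] (hT : ∀ a ∈ S, f a ∈ T) {n : ℕ}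
    (h : ∀ b ∈ T, {a ∈ S | f a = b}.ncard ≤ n) : S.ncard ≤ T.ncard * n := by
  classical
  haveI := Fintype.ofFinite α
  haveI := Fintype.ofFinite β
  rw [Set.ncard_eq_toFinset_card', Set.ncard_eq_toFinset_card', mul_comm]
  refine Finset.card_le_mul_card_image_of_maps_to (f := f) (fun a ha => ?_) n (fun b hb => ?_)
  · rw [Set.mem_toFinset] at ha ⊢; exact hT a ha
  · rw [Set.mem_toFinset] at hb
    refine le_trans (le_of_eq ?_) (h b hb)
    rw [Set.ncard_eq_toFinset_card']
    congr 1
    ext a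
    simp

omit hd hQ hg in
/-- A submodule cut by functionals independent on it. -/
theorem finrank_inf_ker {k : ℕ} (U : Submodule (ZMod 2) V) (φ : V →ₗ[ZMod 2] (Fin k → ZMod 2))
    (hφ : ∀ val, ∃ x ∈ U, φ x = val) :
    Module.finrank (ZMod 2) ↥(U ⊓ LinearMap.ker φ) + k = Module.finrank (ZMod 2) U := by
  have h1 := LinearMap.finrank_range_add_finrank_ker (φ.comp U.subtype)
  have h2 : LinearMap.range (φ.comp U.subtype) = ⊤ := LinearMap.range_eq_top.mpr fun v => by
    obtain ⟨x, hx, hxv⟩ := hφ v; exact ⟨⟨x, hx⟩, hxv⟩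
  have h3 : LinearMap.ker (φ.comp U.subtype) = (U ⊓ LinearMap.ker φ).comap U.subtype := by
    ext x; simp
  have h4 := (Submodule.comapSubtypeEquivOfLe (inf_le_left : U ⊓ LinearMap.ker φ ≤ U)).finrank_eq
  rw [h2, finrank_top, Module.finrank_fin_fun, h3, h4] at h1
  omega

omit hd hQ hg in
/-- Solutions of a linear system inside a submodule. -/
theorem ncard_sol_le {k : ℕ} (U : Submodule (ZMod 2) V) (φ : V →ₗ[ZMod 2] (Fin k → ZMod 2))
    (hφ : ∀ val, ∃ x ∈ U, φ x = val) (val : Fin k → ZMod 2) :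
    {x | x ∈ U ∧ φ x = val}.ncard ≤ 2 ^ (Module.finrank (ZMod 2) U - k) := by
  obtain ⟨x₀, hx₀, hv⟩ := hφ val
  have hc := Module.natCard_eq_pow_finrank (K := ZMod 2) (V := ↥(U ⊓ LinearMap.ker φ))
  rw [Nat.card_zmod, show Module.finrank (ZMod 2) ↥(U ⊓ LinearMap.ker φ) =
    Module.finrank (ZMod 2) U - k by have := finrank_inf_ker U φ hφ; omega] at hc
  rw [← hc, show Nat.card ↥(U ⊓ LinearMap.ker φ) =
    ((U ⊓ LinearMap.ker φ : Submodule (ZMod 2) V) : Set V).ncard from Nat.card_coe_set_eq _]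
  refine Set.ncard_le_ncard_of_injOn (fun x => x + x₀) (fun x hx => ⟨U.add_mem hx.1 hx₀, ?_⟩)
    (fun x _ y _ h => add_right_cancel h) (Set.toFinite _)
  show φ (x + x₀) = 0
  rw [map_add, hx.2, hv]; funext i; exact zmod_two_add _

/-- Centraliser bound, relative to a fixed invariant subspace. -/
theorem Sh.centralizer_bound (j : ℕ) : ∀ W : Submodule (ZMod 2) V,
    Module.finrank (ZMod 2) W + 2 * j = Module.finrank (ZMod 2) V →
    (∀ x ∈ W, nmap g x ∈ W) → (∀ x ∈ W, nmap g x = 0 → ∃ w ∈ W, nmap g w = x) →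
    {h : orthGroup Q | Commute h g ∧ ∀ x ∈ W, h.1 x = x}.ncard ≤ 2 ^ (j * (j + 1)) := by
  haveI : Finite (orthGroup Q) := Finite.of_injective (fun h : orthGroup Q => (h.1 : V → V))
    fun a b h => orth_ext fun x => congrFun h x
  induction j with
  | zero =>
    intro W hW _ _
    have hWt : W = ⊤ := Submodule.eq_top_of_finrank_eq (by omega)
    refine le_trans (Set.ncard_le_ncard (t := {(1 : orthGroup Q)}) ?_ (Set.toFinite _)) (by simp)
    intro h hh
    exact orth_ext fun x => by rw [hh.2 x (hWt ▸ Submodule.mem_top), orth_one_apply]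
  | succ j ih =>
    intro W hW hinv hker
    obtain ⟨v, hv⟩ : ∃ v, v ∉ W ⊔ LinearMap.ker (nmap g) := by
      by_contra hall
      push Not at hall
      have ht : W ⊔ LinearMap.ker (nmap g) = ⊤ := eq_top_iff.mpr fun x _ => hall x
      have himg : LinearMap.range (nmap g) ≤ W.map (nmap g) := by
        rintro _ ⟨x, rfl⟩
        obtain ⟨a, ha, b, hb, rfl⟩ := Submodule.mem_sup.mp (hall x)
        exact ⟨a, ha, by rw [map_add, LinearMap.mem_ker.mp hb, add_zero]⟩
      have h1 := Submodule.finrank_mono himg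
      have h2 := LinearMap.finrank_range_add_finrank_ker (nmap g)
      have h3 := hg.ker_le hQ
      have h4 := LinearMap.finrank_range_add_finrank_ker ((nmap g).comp W.subtype)
      rw [LinearMap.range_comp, Submodule.range_subtype] at h4
      have h5 : W.map (nmap g) ≤ (LinearMap.ker ((nmap g).comp W.subtype)).map W.subtype := by
        rintro _ ⟨w, hw, rfl⟩
        exact ⟨⟨nmap g w, hinv w hw⟩, by simp [hg.nmap_nmap], rfl⟩
      have h6 := (Submodule.finrank_mono h5).trans (Submodule.finrank_map_le _ _)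
      omega
    have hvW : v ∉ W := fun h => hv (Submodule.mem_sup_left h)
    have hk : ∀ (c : ZMod 2), c • v ∈ W ⊔ LinearMap.ker (nmap g) → c = 0 := by
      intro c hc
      by_contra h0
      rw [zmod_two_eq_one h0, one_smul] at hc
      exact hv hc
    have hu : nmap g v ∉ W ⊔ Submodule.span (ZMod 2) {v} := by
      intro h
      obtain ⟨w, hw, z, hz, hwz⟩ := Submodule.mem_sup.mp h
      obtain ⟨c, rfl⟩ := Submodule.mem_span_singleton.mp hz
      have hc : c • v ∈ W ⊔ LinearMap.ker (nmap g) := by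
        have : c • v = w + nmap g v := by rw [← hwz, ← add_assoc, add_self', zero_add]
        rw [this]
        exact Submodule.add_mem_sup hw (LinearMap.mem_ker.mpr (hg.nmap_nmap v))
      rw [hk c hc, zero_smul, add_zero] at hwz
      obtain ⟨w₀, hw₀, he⟩ := hker w hw (by rw [hwz]; exact hg.nmap_nmap v)
      refine hv ?_
      have : v = w₀ + (w₀ + v) := by rw [← add_assoc, add_self', zero_add]
      rw [this]
      exact Submodule.add_mem_sup hw₀ (LinearMap.mem_ker.mpr
        (by rw [map_add, he, hwz, add_self']))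
    let W' := W ⊔ Submodule.span (ZMod 2) {v} ⊔ Submodule.span (ZMod 2) {nmap g v}
    have hW' : Module.finrank (ZMod 2) W' + 2 * j = Module.finrank (ZMod 2) V := by
      show Module.finrank (ZMod 2) ↥(_ ⊔ _ : Submodule (ZMod 2) V) + _ = _
      rw [Submodule.finrank_sup_span_singleton hu, Submodule.finrank_sup_span_singleton hvW]
      omega
    have hmem : ∀ x ∈ W', ∃ w ∈ W, ∃ c d : ZMod 2, x = w + c • v + d • nmap g v := by
      intro x hx
      obtain ⟨y, hy, z, hz, rfl⟩ := Submodule.mem_sup.mp hx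
      obtain ⟨w, hw, z', hz', rfl⟩ := Submodule.mem_sup.mp hy
      obtain ⟨c, rfl⟩ := Submodule.mem_span_singleton.mp hz'
      obtain ⟨d, rfl⟩ := Submodule.mem_span_singleton.mp hz
      exact ⟨w, hw, c, d, rfl⟩
    have hWle : W ≤ W' := le_sup_left.trans le_sup_left
    have hv' : v ∈ W' := Submodule.mem_sup_left (Submodule.mem_sup_right
      (Submodule.mem_span_singleton_self v))
    have hu' : nmap g v ∈ W' := Submodule.mem_sup_right (Submodule.mem_span_singleton_self _)
    have hinv' : ∀ x ∈ W', nmap g x ∈ W' := by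
      intro x hx
      obtain ⟨w, hw, c, d, rfl⟩ := hmem x hx
      simp only [map_add, map_smul, hg.nmap_nmap, smul_zero, add_zero]
      exact W'.add_mem (hWle (hinv w hw)) (W'.smul_mem c hu')
    have hker' : ∀ x ∈ W', nmap g x = 0 → ∃ w ∈ W', nmap g w = x := by
      intro x hx hx0
      obtain ⟨w, hw, c, d, rfl⟩ := hmem x hx
      have hc : c = 0 := by
        refine hk c ?_
        have : c • v = w + (w + c • v + d • nmap g v + d • nmap g v) := by
          rw [add_assoc (w + c • v), add_self', add_zero, ← add_assoc, add_self', zero_add]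
        rw [this]
        refine Submodule.add_mem_sup hw (LinearMap.mem_ker.mpr ?_)
        rw [map_add, hx0, map_smul, hg.nmap_nmap, smul_zero, add_zero]
      subst hc
      rw [zero_smul, add_zero] at hx0 ⊢
      rw [map_add, map_smul, hg.nmap_nmap, smul_zero, add_zero] at hx0
      obtain ⟨w₀, hw₀, he⟩ := hker w hw hx0
      exact ⟨w₀ + d • v, W'.add_mem (hWle hw₀) (W'.smul_mem d hv'),
        by rw [map_add, map_smul, he]⟩
    have hT : ((polB Q).orthogonal W : Set V).ncard = 2 ^ (2 * (j + 1)) := by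
      have hc := Module.natCard_eq_pow_finrank (K := ZMod 2) (V := ↥((polB Q).orthogonal W))
      have hf := finrank_orth_add hQ W
      rw [Nat.card_zmod, show Module.finrank (ZMod 2) ↥((polB Q).orthogonal W) = 2 * (j + 1) by omega]
        at hc
      rw [← Nat.card_coe_set_eq]; exact hc
    refine le_trans (natCard_le_mul_of_fibres _ (fun h => h.1 v + v)
      ((polB Q).orthogonal W : Set V) ?_ (n := 2 ^ (j * (j + 1))) ?_) ?_
    · intro h hh w hw
      show polB Q w (h.1 v + v) = 0
      have := orth_polB_map h w v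
      rw [hh.2 w hw] at this
      rw [map_add, this, zmod_two_add]
    · intro b _
      by_cases hne : {h ∈ {h : orthGroup Q | Commute h g ∧ ∀ x ∈ W, h.1 x = x} |
          h.1 v + v = b}.Nonempty
      · obtain ⟨h₀, ⟨hc₀, hf₀⟩, hb₀⟩ := hne
        refine le_trans (Set.ncard_le_ncard_of_injOn (fun h => h₀⁻¹ * h) ?_
          (fun a _ c _ e => mul_left_cancel e) (Set.toFinite _)) (ih W' hW' hinv' hker')
        rintro h ⟨⟨hc, hf⟩, hb⟩
        have hcom : Commute (h₀⁻¹ * h) g := hc₀.inv_left.mul_left hc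
        have hfix : (h₀⁻¹ * h).1 v = v := by
          rw [orth_mul_apply, show h.1 v = h₀.1 v from add_right_cancel (hb.trans hb₀.symm),
            orth_inv_apply_self]
        refine ⟨hcom, fun x hx => ?_⟩
        obtain ⟨w, hw, c, d, rfl⟩ := hmem x hx
        have hw' : (h₀⁻¹ * h).1 w = w := by
          rw [orth_mul_apply, hf w hw]
          conv_lhs => rw [← hf₀ w hw]
          rw [orth_inv_apply_self]
        have hu'' : (h₀⁻¹ * h).1 (g.1 v) = g.1 v := by
          rw [← orth_mul_apply, hcom.eq, orth_mul_apply, hfix]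
        simp only [nmap_apply, map_add, map_smul, hw', hu'', hfix]
      · rw [Set.not_nonempty_iff_eq_empty] at hne
        rw [hne]; simp
    · rw [hT, ← pow_add]
      exact Nat.pow_le_pow_right (by norm_num) (by linarith)

omit [Fintype V] hQ hd hg in
/-- Adjusting a vector to be orthogonal to a block `a, c, u, w`. -/
theorem exists_adjust {a c u w : V} (hau : polB Q a u = 0) (haw : polB Q a w = 1)
    (hcu : polB Q c u = 1) (hcw : polB Q c w = 0) (huw : polB Q u w = 0) (x : V) :
    ∃ p q s t : ZMod 2, polB Q (x + p • a + q • c + s • u + t • w) a = 0 ∧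
      polB Q (x + p • a + q • c + s • u + t • w) c = 0 ∧
      polB Q (x + p • a + q • c + s • u + t • w) u = 0 ∧
      polB Q (x + p • a + q • c + s • u + t • w) w = 0 := by
  refine ⟨polB Q x w, polB Q x u, polB Q x c + polB Q x w * polB Q a c,
    polB Q x a + polB Q x u * polB Q a c, ?_, ?_, ?_, ?_⟩ <;>
    simp only [map_add, map_smul, LinearMap.add_apply, LinearMap.smul_apply, smul_eq_mul,
      polB_self' (Q := Q) a, polB_self' (Q := Q) c, polB_self' (Q := Q) u, polB_self' (Q := Q) w, polB_comm c a, polB_comm u a, polB_comm w a, polB_comm u c, polB_comm w c,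
      polB_comm w u, hau, haw, hcu, hcw, huw]
  · linear_combination zmod_two_add (polB Q x a + polB Q x u * polB Q a c)
  · linear_combination zmod_two_add (polB Q x c + polB Q x w * polB Q a c)
  · linear_combination zmod_two_add (polB Q x u)
  · linear_combination zmod_two_add (polB Q x w)

omit [Fintype V] hQ hd hg in
/-- The four functionals of a block. -/
def blockMap (Q : QuadraticForm (ZMod 2) V) (a c u w : V) : V →ₗ[ZMod 2] (Fin 4 → ZMod 2) :=
  LinearMap.pi ![(polB Q).flip a, (polB Q).flip c, (polB Q).flip u, (polB Q).flip w]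

omit [Fintype V] hQ hd hg in
theorem blockMap_apply (a c u w x : V) : blockMap Q a c u w x =
    ![polB Q x a, polB Q x c, polB Q x u, polB Q x w] := by
  funext i
  fin_cases i <;> simp [blockMap]

omit [Fintype V] hQ hd hg in
theorem mem_ker_blockMap {a c u w x : V} : x ∈ LinearMap.ker (blockMap Q a c u w) ↔
    polB Q x a = 0 ∧ polB Q x c = 0 ∧ polB Q x u = 0 ∧ polB Q x w = 0 := by
  rw [LinearMap.mem_ker, blockMap_apply]
  simp [funext_iff, Fin.forall_fin_succ]

omit [Fintype V] hQ hd hg in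
/-- The form is non-degenerate on a submodule. -/
def Reg (Q : QuadraticForm (ZMod 2) V) (U : Submodule (ZMod 2) V) : Prop :=
  ∀ x ∈ U, x ≠ 0 → ∃ y ∈ U, polB Q x y = 1

omit [Fintype V] hQ hd hg in
theorem Reg.exists_one {U : Submodule (ZMod 2) V} (hU : Reg Q U) (hne : U ≠ ⊥) :
    ∃ a ∈ U, Q a = 1 := by
  obtain ⟨x, hx, hx0⟩ := U.ne_bot_iff.mp hne
  obtain ⟨y, hy, hxy⟩ := hU x hx hx0
  by_contra h
  push Not at h
  have e : ∀ a : ZMod 2, a ≠ 1 → a = 0 := by decide
  refine h (x + y) (U.add_mem hx hy) ?_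
  rw [qmap_add, e _ (h x hx), e _ (h y hy), hxy, zero_add, zero_add]

/-- What a shift does to a block. -/
theorem Sh.block {a c : V} (hcu : polB Q c (nmap g a) = 1) :
    polB Q a (nmap g a) = 0 ∧ polB Q a (nmap g c) = 1 ∧ polB Q c (nmap g c) = 0 ∧
      polB Q (nmap g a) (nmap g c) = 0 :=
  ⟨hg.perp_self hQ hd a, by rw [hg.sym, polB_comm]; exact hcu, hg.perp_self hQ hd c,
    hg.nmap_perp hQ hd a c⟩

/-- The step down from a submodule by a block. -/
theorem Sh.step {U : Submodule (ZMod 2) V} (hU : Reg Q U) (hinv : ∀ x ∈ U, nmap g x ∈ U)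
    {a c : V} (ha : a ∈ U) (hc : c ∈ U) (hcu : polB Q c (nmap g a) = 1) :
    Reg Q (U ⊓ LinearMap.ker (blockMap Q a c (nmap g a) (nmap g c))) ∧
    (∀ x ∈ U ⊓ LinearMap.ker (blockMap Q a c (nmap g a) (nmap g c)),
      nmap g x ∈ U ⊓ LinearMap.ker (blockMap Q a c (nmap g a) (nmap g c))) ∧
    Module.finrank (ZMod 2)
        ↥(U ⊓ LinearMap.ker (blockMap Q a c (nmap g a) (nmap g c))) + 4 =
      Module.finrank (ZMod 2) U ∧
    (∀ val, ∃ x ∈ U, blockMap Q a c (nmap g a) (nmap g c) x = val) := by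
  obtain ⟨hau, haw, hcw, huw⟩ := hg.block hQ hd hcu
  have hsurj : ∀ val, ∃ x ∈ U, blockMap Q a c (nmap g a) (nmap g c) x = val := by
    intro val
    refine ⟨val 3 • a + val 2 • c + (val 1 + val 3 * polB Q a c) • nmap g a +
      (val 0 + val 2 * polB Q a c) • nmap g c, U.add_mem (U.add_mem (U.add_mem (U.smul_mem _ ha)
        (U.smul_mem _ hc)) (U.smul_mem _ (hinv a ha))) (U.smul_mem _ (hinv c hc)), ?_⟩
    rw [blockMap_apply]
    funext i
    fin_cases i <;>
      simp [polB_self' (Q := Q), polB_comm c a, polB_comm (nmap g a) a, polB_comm (nmap g c) a,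
        polB_comm (nmap g a) c, polB_comm (nmap g c) c, polB_comm (nmap g c) (nmap g a),
        hau, haw, hcu, hcw, huw] <;>
      first
        | linear_combination zmod_two_add (val 2 * polB Q a c)
        | linear_combination zmod_two_add (val 3 * polB Q a c)
  refine ⟨?_, ?_, finrank_inf_ker U _ hsurj, hsurj⟩
  · rintro x ⟨hx, hxb⟩ hx0
    obtain ⟨y, hy, hxy⟩ := hU x hx hx0
    obtain ⟨p, q, s, t, hz⟩ := exists_adjust hau haw hcu hcw huw y
    refine ⟨_, ⟨U.add_mem (U.add_mem (U.add_mem (U.add_mem hy (U.smul_mem p ha))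
      (U.smul_mem q hc)) (U.smul_mem s (hinv a ha))) (U.smul_mem t (hinv c hc)),
      mem_ker_blockMap.mpr hz⟩, ?_⟩
    obtain ⟨h1, h2, h3, h4⟩ := mem_ker_blockMap.mp hxb
    simp only [map_add, map_smul, smul_eq_mul, hxy, h1, h2, h3, h4, mul_zero, add_zero]
  · rintro x ⟨hx, hxb⟩
    obtain ⟨h1, h2, h3, h4⟩ := mem_ker_blockMap.mp hxb
    refine ⟨hinv x hx, mem_ker_blockMap.mpr ⟨?_, ?_, ?_, ?_⟩⟩ <;> rw [← hg.sym]
    · exact h3
    · exact h4
    · rw [hg.nmap_nmap, map_zero]
    · rw [hg.nmap_nmap, map_zero]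

/-- The dimension of an invariant non-degenerate subspace is divisible by four. -/
theorem Sh.four_dvd (n : ℕ) : ∀ U : Submodule (ZMod 2) V, Module.finrank (ZMod 2) U = n →
    Reg Q U → (∀ x ∈ U, nmap g x ∈ U) → 4 ∣ n := by
  induction n using Nat.strong_induction_on with
  | _ n ih =>
    intro U hn hU hinv
    by_cases hne : U = ⊥
    · subst hne; rw [← hn, finrank_bot]; exact dvd_zero 4
    obtain ⟨a, ha, hQa⟩ := hU.exists_one hne
    have hu0 : nmap g a ≠ 0 := fun h => one_ne_zero (hQa.symm.trans (hg.ker_singular h))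
    obtain ⟨c, hc, hcu⟩ := hU _ (hinv a ha) hu0
    rw [polB_comm] at hcu
    obtain ⟨hU', hinv', hf, -⟩ := hg.step hQ hd hU hinv ha hc hcu
    have := ih _ (by omega) _ rfl hU' hinv'
    omega

theorem Sh.four_dvd_finrank : 4 ∣ Module.finrank (ZMod 2) V := by
  refine hg.four_dvd hQ hd _ ⊤ (finrank_top _ _) (fun x _ hx => ?_) fun _ _ => trivial
  obtain ⟨y, hy⟩ := exists_polB_eq hQ hx 1
  exact ⟨y, trivial, by rw [polB_comm] at hy; first | exact hy | (rw [polB_comm]; exact hy)⟩

omit hg

/-- A bound for the number of shifts of a block of dimension `4 r`. -/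
def cnt : ℕ → ℕ
  | 0 => 1
  | r + 1 => 2 ^ (4 * r + 2) * (2 ^ (4 * r + 1) * cnt r)

/-- Bound on the number of shifts agreeing outside a non-degenerate subspace. -/
theorem shift_count (r : ℕ) : ∀ (U : Submodule (ZMod 2) V) (S : Set (orthGroup Q)),
    Module.finrank (ZMod 2) U = 4 * r → Reg Q U → (∀ g ∈ S, Sh g) →
    (∀ g ∈ S, ∀ x ∈ U, nmap g x ∈ U) →
    (∀ g ∈ S, ∀ g' ∈ S, ∀ x, (∀ y ∈ U, polB Q x y = 0) → g.1 x = g'.1 x) →
    S.ncard ≤ cnt r := by
  haveI : Finite (orthGroup Q) := Finite.of_injective (fun h : orthGroup Q => (h.1 : V → V))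
    fun a b h => orth_ext fun x => congrFun h x
  induction r with
  | zero =>
    intro U S hf hU _ _ hag
    have hb : U = ⊥ := Submodule.finrank_eq_zero.mp (by simpa using hf)
    show S.ncard ≤ 1
    rw [Set.ncard_le_one (Set.toFinite _)]
    intro g hg g' hg'
    exact orth_ext fun x => hag g hg g' hg' x fun y hy => by
      rw [hb, Submodule.mem_bot] at hy; rw [hy, map_zero]
  | succ r ih =>
    intro U S hf hU hsh hinv hag
    have hne : U ≠ ⊥ := fun h => by rw [h, finrank_bot] at hf; omega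
    obtain ⟨a, ha, hQa⟩ := hU.exists_one hne
    obtain ⟨e, he, hae⟩ := hU a ha fun h => by rw [h, map_zero] at hQa; exact zero_ne_one hQa
    classical
    let Ta : Set V := {x | x ∈ U ∧ polB Q x a = 0 ∧ Q x = 0}
    have hTa : Ta.ncard ≤ 2 ^ (4 * r + 2) := by
      let φ : V →ₗ[ZMod 2] (Fin 1 → ZMod 2) := LinearMap.pi fun _ => (polB Q).flip a
      have hφ : ∀ val, ∃ x ∈ U, φ x = val := fun val => ⟨val 0 • e, U.smul_mem _ he, by
        funext i; rw [Subsingleton.elim i 0]; simp [φ, polB_comm e a, hae]⟩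
      have h1 := ncard_sol_le U φ hφ 0
      let A : Set V := {x | x ∈ U ∧ φ x = 0}
      have hsub : Ta ∪ (fun x => x + a) '' Ta ⊆ A := by
        rintro x (⟨hx, h, -⟩ | ⟨y, ⟨hy, h, -⟩, rfl⟩)
        · exact ⟨hx, funext fun _ => by simpa [φ] using h⟩
        · exact ⟨U.add_mem hy ha, funext fun _ => by simp [φ, h, polB_self' (Q := Q)]⟩
      have hdisj : Disjoint Ta ((fun x => x + a) '' Ta) := by
        rw [Set.disjoint_left]
        rintro x ⟨-, -, hx⟩ ⟨y, ⟨-, h, hy⟩, rfl⟩
        simp only [qmap_add, hy, hQa, h, zero_add, add_zero] at hx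
        exact one_ne_zero hx
      have h2 := Set.ncard_le_ncard hsub (Set.toFinite _)
      rw [Set.ncard_union_eq hdisj (Set.toFinite _) (Set.toFinite _),
        Set.ncard_image_of_injective _ (add_left_injective a)] at h2
      have h3 : Module.finrank (ZMod 2) U - 1 = (4 * r + 2) + 1 := by omega
      rw [h3, pow_succ] at h1
      have h1' : A.ncard ≤ 2 ^ (4 * r + 2) * 2 := h1
      show Ta.ncard ≤ _
      omega
    refine le_trans (natCard_le_mul_of_fibres _ (fun g => nmap g a) Ta ?_
      (n := 2 ^ (4 * r + 1) * cnt r) ?_) (Nat.mul_le_mul_right _ hTa)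
    · intro g hg
      exact ⟨hinv g hg a ha, by rw [polB_comm]; exact (hsh g hg).perp_self hQ hd a,
        (hsh g hg).singular hQ hd a⟩
    intro u _
    by_cases hne' : {g ∈ S | nmap g a = u}.Nonempty
    swap
    · rw [Set.not_nonempty_iff_eq_empty] at hne'; rw [hne']; simp
    obtain ⟨g₁, hg₁, rfl⟩ := hne'
    have hu0 : nmap g₁ a ≠ 0 := fun h => one_ne_zero (hQa.symm.trans ((hsh g₁ hg₁).ker_singular h))
    obtain ⟨c, hc, hcu⟩ := hU _ (hinv g₁ hg₁ a ha) hu0
    rw [polB_comm] at hcu
    let ψ : V →ₗ[ZMod 2] (Fin 3 → ZMod 2) :=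
      LinearMap.pi ![(polB Q).flip a, (polB Q).flip c, (polB Q).flip (nmap g₁ a)]
    let Tc : Set V := {x | x ∈ U ∧ ψ x = ![1, 0, 0]}
    obtain ⟨-, -, -, hsur⟩ := (hsh g₁ hg₁).step hQ hd hU (hinv g₁ hg₁) ha hc hcu
    have hψ : ∀ val, ∃ x ∈ U, ψ x = val := by
      intro val
      obtain ⟨x, hx, hxv⟩ := hsur ![val 0, val 1, val 2, 0]
      rw [blockMap_apply] at hxv
      refine ⟨x, hx, funext fun i => ?_⟩
      fin_cases i
      · simpa [ψ] using congrFun hxv 0
      · simpa [ψ] using congrFun hxv 1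
      · simpa [ψ] using congrFun hxv 2
    have hTc : Tc.ncard ≤ 2 ^ (4 * r + 1) := by
      have h := ncard_sol_le U ψ hψ ![1, 0, 0]
      rwa [show Module.finrank (ZMod 2) U - 3 = 4 * r + 1 by omega] at h
    refine le_trans (natCard_le_mul_of_fibres _ (fun g => nmap g c) Tc ?_ (n := cnt r) ?_)
      (Nat.mul_le_mul_right _ hTc)
    · rintro g ⟨hg, hgu⟩
      obtain ⟨-, haw, hcw, huw⟩ := (hsh g hg).block hQ hd (a := a) (c := c) (by
        rw [hgu]; exact hcu)
      refine ⟨hinv g hg c hc, funext fun i => ?_⟩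
      fin_cases i
      · simpa [ψ, polB_comm (nmap g c) a] using haw
      · simpa [ψ, polB_comm (nmap g c) c] using hcw
      · simp only [ψ]; rw [hgu] at huw; rw [polB_comm] at huw; simpa using huw
    intro w _
    by_cases hne'' : {g ∈ {g ∈ S | nmap g a = nmap g₁ a} | nmap g c = w}.Nonempty
    swap
    · rw [Set.not_nonempty_iff_eq_empty] at hne''; rw [hne'']; simp
    obtain ⟨g₂, ⟨hg₂, hu₂⟩, rfl⟩ := hne''
    have hcu₂ : polB Q c (nmap g₂ a) = 1 := by rw [hu₂]; exact hcu
    obtain ⟨hau, haw, hcw, huw⟩ := (hsh g₂ hg₂).block hQ hd hcu₂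
    obtain ⟨hU', -, hf', -⟩ := (hsh g₂ hg₂).step hQ hd hU (hinv g₂ hg₂) ha hc hcu₂
    refine ih (U ⊓ LinearMap.ker (blockMap Q a c (nmap g₂ a) (nmap g₂ c))) _ (by omega) hU'
      (fun g hg => hsh g hg.1.1) ?_ ?_
    · rintro g ⟨⟨hg, h1⟩, h2⟩ x hx
      have hcu' : polB Q c (nmap g a) = 1 := by rw [h1]; exact hcu
      obtain ⟨-, hinv', -, -⟩ := (hsh g hg).step hQ hd hU (hinv g hg) ha hc hcu'
      rw [h1, h2, ← hu₂] at hinv'
      exact hinv' x hx
    · rintro g ⟨⟨hg, h1⟩, h2⟩ g' ⟨⟨hg', h1'⟩, h2'⟩ x hx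
      obtain ⟨p, q, s, t, hz⟩ := exists_adjust hau haw hcu₂ hcw huw x
      have hz' : ∀ y ∈ U,
          polB Q (x + p • a + q • c + s • nmap g₂ a + t • nmap g₂ c) y = 0 := by
        intro y hy
        obtain ⟨p', q', s', t', hy'⟩ := exists_adjust hau haw hcu₂ hcw huw y
        have hin : y + p' • a + q' • c + s' • nmap g₂ a + t' • nmap g₂ c ∈
            U ⊓ LinearMap.ker (blockMap Q a c (nmap g₂ a) (nmap g₂ c)) :=
          ⟨U.add_mem (U.add_mem (U.add_mem (U.add_mem hy (U.smul_mem p' ha))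
            (U.smul_mem q' hc)) (U.smul_mem s' (hinv g₂ hg₂ a ha)))
            (U.smul_mem t' (hinv g₂ hg₂ c hc)), mem_ker_blockMap.mpr hy'⟩
        have hk := hx _ hin
        obtain ⟨y1, y2, y3, y4⟩ := hy'
        obtain ⟨z1, z2, z3, z4⟩ := hz
        generalize hzdef : x + p • a + q • c + s • nmap g₂ a + t • nmap g₂ c = z at z1 z2 z3 z4 ⊢
        generalize hydef : y + p' • a + q' • c + s' • nmap g₂ a + t' • nmap g₂ c = y' at y1 y2 y3 y4 hk
        have e1 : polB Q z y' = polB Q z y := by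
          rw [← hydef]
          simp only [map_add, map_smul, smul_eq_mul, z1, z2, z3, z4, mul_zero, add_zero]
        rw [← e1, ← hzdef]
        simp only [map_add, map_smul, LinearMap.add_apply, LinearMap.smul_apply, smul_eq_mul,
          polB_comm a y', polB_comm c y', polB_comm (nmap g₂ a) y', polB_comm (nmap g₂ c) y',
          y1, y2, y3, y4, hk, mul_zero, add_zero]
      have hsame := hag g hg g' hg' _ hz'
      have e1 : g.1 a = g'.1 a := by rw [apply_eq g, apply_eq g', h1, h1']
      have e2 : g.1 c = g'.1 c := by rw [apply_eq g, apply_eq g', h2, h2']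
      have e3 : g.1 (nmap g₂ a) = g'.1 (nmap g₂ a) := by
        rw [apply_eq g (nmap g₂ a), apply_eq g' (nmap g₂ a)]
        conv_lhs => rw [hu₂, ← h1, (hsh g hg).nmap_nmap]
        conv_rhs => rw [hu₂, ← h1', (hsh g' hg').nmap_nmap]
        rw [h1, h1']
      have e4 : g.1 (nmap g₂ c) = g'.1 (nmap g₂ c) := by
        rw [apply_eq g (nmap g₂ c), apply_eq g' (nmap g₂ c)]
        conv_lhs => rw [← h2, (hsh g hg).nmap_nmap]
        conv_rhs => rw [← h2', (hsh g' hg').nmap_nmap]
        rw [h2, h2']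
      simpa only [map_add, map_smul, e1, e2, e3, e4, add_left_inj] using hsame

end H51.Disc
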